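import Groth.Agent.H18PBC.AbCompare
import Groth.Agent.H11SetBC.EtaleSect
import Groth.Agent.H18Et.Support
import Groth.Agent.H18Et.PushClosed

/-!
# Units over dense opens, via geometrically connected submersions
-/

set_option autoImplicit false
set_option backward.isDefEq.respectTransparency false
set_option backward.isDefEq.respectTransparency.types false

universe u

open CategoryTheory CategoryTheory.Limits AlgebraicGeometry Opposite
open scoped Groth.Agent.H18Et

namespace Groth.Agent.H18DenseUnit

open H15Site.SetDescent H18Et H18PBC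

theorem geometricallyConnected_of_isIso {A B : Scheme.{u}} (m : A ⟶ B) [IsIso m] : GeometricallyConnected m := by
  refine ⟨fun K _ y Z fst snd h => ?_⟩
  haveI : IsIso snd :=
    MorphismProperty.of_isPullback (P := MorphismProperty.isomorphisms Scheme.{u}) h (inferInstance : IsIso m)
  haveI : ConnectedSpace (Spec (CommRingCat.of K)) :=
    { toNonempty := ⟨(default : PrimeSpectrum K)⟩, isPreconnected_univ := (Set.subsingleton_univ).isPreconnected }
  exact (Scheme.homeoOfIso (asIso snd)).symm.surjective.connectedSpace (Scheme.homeoOfIso (asIso snd)).symm.continuous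

section Rel

variable {Y T : Scheme.{u}} (e : Y ⟶ T) [EtCoh.BCCont e] (B : T.Etale) (D : Y.Etale)
  (μ : D ⟶ (EtCoh.bc e).obj B)

/-- Sections pulled back to `D`. -/
noncomputable def relSect (G : EtCoh.Ab T) (s : EtCoh.sect G B) : EtCoh.sect ((EtCoh.pull e).obj G) D :=
  ((EtCoh.pull e).obj G).obj.map μ.op (((EtCoh.pullPushAdj e).unit.app G).hom.app (op B) s)

/-- Relative pullback of sections of abelian sheaves. -/
theorem bijective_relSect (G : EtCoh.Ab T) [GeometricallyConnected (μ.left ≫ pullback.fst B.hom e)]
    (hsub : EtDesc.IsUnivSubmersive (μ.left ≫ pullback.fst B.hom e)) :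
    Function.Bijective (relSect e B D μ G) := by
  haveI := isIso_pullCmp e G
  have hc : Function.Bijective ((pullCmp e G).hom.app (op D)) :=
    (isIso_iff_bijective _).1 (inferInstance :
      IsIso (((sheafToPresheaf _ _).map (pullCmp e G)).app (op D)))
  have h := hc.comp (H11SetBC.bijective_pullSect_rel e B D μ (und G) hsub)
  have he : relSect e B D μ G =
      fun s => (pullCmp e G).hom.app (op D) (((EtDesc.pullSh e).obj (und G)).obj.map μ.op (pullSect e (und G) s)) := by
    funext s
    refine Eq.trans ?_ (ConcreteCategory.congr_hom ((pullCmp e G).hom.naturality μ.op) (pullSect e (und G) s)).symm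
    exact congrArg (((EtCoh.pull e).obj G).obj.map μ.op) (pullCmp_pullSect e G s).symm
  exact Eq.mpr (congrArg Function.Bijective he) h

theorem relSect_comp {D' : Y.Etale} (ι : D' ⟶ D) (G : EtCoh.Ab T) (s : EtCoh.sect G B) :
    ((EtCoh.pull e).obj G).obj.map ι.op (relSect e B D μ G s) = relSect e B D' (ι ≫ μ) G s :=
  (ConcreteCategory.congr_hom (((EtCoh.pull e).obj G).obj.map_comp μ.op ι.op)
    (((EtCoh.pullPushAdj e).unit.app G).hom.app (op B) s)).symm

end Rel

section Open

variable {U X : Scheme.{u}} (j : U ⟶ X) [IsOpenImmersion j] [EtCoh.BCCont j] (G : EtCoh.Ab X)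

/-- The part of an étale object lying over an open. -/
noncomputable def openPart (D : X.Etale) : X.Etale :=
  haveI := D.prop
  Scheme.Etale.mk (pullback.fst D.hom j ≫ D.hom)

/-- Its inclusion. -/
noncomputable def openPartι (D : X.Etale) : openPart j D ⟶ D :=
  MorphismProperty.Over.homMk (pullback.fst D.hom j) rfl trivial

theorem bijective_unit_of_res (D : X.Etale)
    (hres : Function.Bijective (G.obj.map (openPartι j D).op)) :
    Function.Bijective (((EtCoh.pullPushAdj j).unit.app G).hom.app (op D)) := by
  let P := openPart j D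
  haveI h1 : IsIso (pullback.fst P.hom j) := by
    refine ⟨pullback.lift (𝟙 _) (pullback.snd D.hom j) ((Category.id_comp _).trans pullback.condition),
      pullback.hom_ext ?_ ?_, pullback.lift_fst _ _ _⟩
    · rw [Category.assoc, pullback.lift_fst, Category.comp_id, Category.id_comp]
    · rw [← cancel_mono j, Category.assoc, Category.assoc, pullback.lift_snd_assoc, Category.id_comp,
        ← pullback.condition (f := P.hom)]
      exact congrArg (pullback.fst P.hom j ≫ ·) (pullback.condition (f := D.hom)).symm
  let ν : (EtCoh.bc j).obj P ⟶ (EtCoh.bc j).obj P := 𝟙 _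
  have hm : IsIso (ν.left ≫ pullback.fst P.hom j) := by
    show IsIso (𝟙 _ ≫ pullback.fst P.hom j)
    infer_instance
  haveI : GeometricallyConnected (ν.left ≫ pullback.fst P.hom j) := geometricallyConnected_of_isIso _
  have hsub : EtDesc.IsUnivSubmersive (ν.left ≫ pullback.fst P.hom j) := fun Z g =>
    ⟨(Scheme.homeoOfIso (asIso (pullback.snd (ν.left ≫ pullback.fst P.hom j) g))).surjective,
      (Scheme.homeoOfIso (asIso (pullback.snd (ν.left ≫ pullback.fst P.hom j) g))).isQuotientMap⟩
  have hP : Function.Bijective (((EtCoh.pullPushAdj j).unit.app G).hom.app (op P)) := by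
    have h := bijective_relSect j P _ ν G hsub
    have he : relSect j P _ ν G =
        fun s => ((EtCoh.pullPushAdj j).unit.app G).hom.app (op P) s :=
      funext fun s => ConcreteCategory.congr_hom (((EtCoh.pull j).obj G).obj.map_id _) _
    exact Eq.mp (congrArg Function.Bijective he) h
  haveI : IsIso ((EtCoh.bc j).map (openPartι j D)) := by
    let q : (EtCoh.bc j).obj D ⟶ (EtCoh.bc j).obj P :=
      MorphismProperty.Over.homMk (pullback.lift (𝟙 _) (pullback.snd D.hom j)
        ((Category.id_comp _).trans pullback.condition)) (pullback.lift_snd _ _ _) trivial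
    have hq : q.left ≫ pullback.fst P.hom j = 𝟙 _ := pullback.lift_fst _ _ _
    refine ⟨q, bc_hom_ext ?_, bc_hom_ext ?_⟩
    · show (((EtCoh.bc j).map (openPartι j D)).left ≫ q.left) ≫ pullback.fst P.hom j = 𝟙 _ ≫ pullback.fst P.hom j
      rw [Category.assoc, hq]
      refine (Category.comp_id _).trans (Eq.trans ?_ (Category.id_comp _).symm)
      refine pullback.hom_ext (bc_map_fst j (openPartι j D)) ?_
      rw [← cancel_mono j]
      refine (congrArg (· ≫ j) (Over.w ((EtCoh.bc j).map (openPartι j D)).hom)).trans ?_
      refine (pullback.condition (f := P.hom)).symm.trans ?_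
      exact (congrArg (pullback.fst P.hom j ≫ ·) (pullback.condition (f := D.hom))).trans (Category.assoc _ _ _).symm
    · show (q.left ≫ ((EtCoh.bc j).map (openPartι j D)).left) ≫ pullback.fst D.hom j = 𝟙 _ ≫ pullback.fst D.hom j
      rw [Category.assoc, bc_map_fst, ← Category.assoc, hq]
      rfl
  have hb : Function.Bijective
      (((EtCoh.pull j).obj G).obj.map ((EtCoh.bc j).map (openPartι j D)).op) :=
    ConcreteCategory.bijective_of_isIso _
  have hn : (fun s => ((EtCoh.pull j).obj G).obj.map ((EtCoh.bc j).map (openPartι j D)).op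
      (((EtCoh.pullPushAdj j).unit.app G).hom.app (op D) s)) =
      fun s => ((EtCoh.pullPushAdj j).unit.app G).hom.app (op P) (G.obj.map (openPartι j D).op s) :=
    funext fun s => (ConcreteCategory.congr_hom
      (((EtCoh.pullPushAdj j).unit.app G).hom.naturality (openPartι j D).op) s).symm
  exact (Function.Bijective.of_comp_iff' hb _).1 (Eq.mpr (congrArg Function.Bijective hn) (hP.comp hres))

end Open

end Groth.Agent.H18DenseUnit
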