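import Groth.Agent.H18DenseUnit.AbRel

/-!
# A criterion for the unit of an open immersion to be an isomorphism
-/

set_option autoImplicit false
set_option backward.isDefEq.respectTransparency false
set_option backward.isDefEq.respectTransparency.types false

universe u

open CategoryTheory CategoryTheory.Limits AlgebraicGeometry Opposite
open scoped Groth.Agent.H18Et

namespace Groth.Agent.H18DenseUnit

open H15Site.SetDescent H18Et H18PBC

variable {U X S : Scheme.{u}}

/-- A neighbourhood which is geometrically connected over the base, also after restriction to the open. -/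
structure GoodNbhd (f : X ⟶ S) (j : U ⟶ X) (D : X.Etale) where
  base : S.Etale
  proj : D ⟶ (EtCoh.bc f).obj base
  gc : GeometricallyConnected (proj.left ≫ pullback.fst base.hom f)
  sub : EtDesc.IsUnivSubmersive (proj.left ≫ pullback.fst base.hom f)
  gc' : GeometricallyConnected (pullback.fst D.hom j ≫ proj.left ≫ pullback.fst base.hom f)
  sub' : EtDesc.IsUnivSubmersive (pullback.fst D.hom j ≫ proj.left ≫ pullback.fst base.hom f)

variable (f : X ⟶ S) [EtCoh.BCCont f] (j : U ⟶ X) [IsOpenImmersion j] [EtCoh.BCCont j]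

theorem bijective_unit_goodNbhd (F : EtCoh.Ab S) (D : X.Etale) (h : GoodNbhd f j D) :
    Function.Bijective (((EtCoh.pullPushAdj j).unit.app ((EtCoh.pull f).obj F)).hom.app (op D)) := by
  refine bijective_unit_of_res j _ D ?_
  haveI := h.gc
  haveI := h.gc'
  have has : (openPartι j D ≫ h.proj).left ≫ pullback.fst h.base.hom f =
      pullback.fst D.hom j ≫ h.proj.left ≫ pullback.fst h.base.hom f := Category.assoc _ _ _
  haveI : GeometricallyConnected ((openPartι j D ≫ h.proj).left ≫ pullback.fst h.base.hom f) := by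
    rw [has]; infer_instance
  have h1 := bijective_relSect f h.base D h.proj F h.sub
  have h2 := bijective_relSect f h.base (openPart j D) (openPartι j D ≫ h.proj) F (by rw [has]; exact h.sub')
  have he : (fun s => ((EtCoh.pull f).obj F).obj.map (openPartι j D).op (relSect f h.base D h.proj F s)) =
      relSect f h.base (openPart j D) (openPartι j D ≫ h.proj) F :=
    funext fun s => relSect_comp f h.base D h.proj (openPartι j D) F s
  exact (Function.Bijective.of_comp_iff _ h1).1 (Eq.mpr (congrArg Function.Bijective he) h2)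

/-- If good neighbourhoods are cofinal, the unit is an isomorphism. -/
theorem isIso_unit_of_goodNbhds (F : EtCoh.Ab S)
    (h : ∀ (W : X.Etale) (w : W.left), ∃ (D : X.Etale) (g : D ⟶ W) (d : D.left),
      g.left.base d = w ∧ Nonempty (GoodNbhd f j D)) :
    IsIso ((EtCoh.pullPushAdj j).unit.app ((EtCoh.pull f).obj F)) := by
  let G := (EtCoh.pull f).obj F
  let φ := (EtCoh.pullPushAdj j).unit.app G
  refine isIso_of_stalk φ fun x => ⟨_, _, SeparableClosure.isSepClosed _, geomPt x, geomPt_base x, ?_⟩
  let ξ := geomPt x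
  have hb : ∀ (W : X.Etale) (w : (Scheme.pointSmallEtale ξ).fiber.obj W), ∃ (D : X.Etale) (g : D ⟶ W)
      (y : (Scheme.pointSmallEtale ξ).fiber.obj D), (Scheme.pointSmallEtale ξ).fiber.map g y = w ∧
      Function.Bijective (φ.hom.app (op D)) := fun W w => by
    obtain ⟨D, g, d, hd, ⟨hD⟩⟩ := h W (ptOf w)
    obtain ⟨y, hy⟩ := exists_fiber_lift g w d hd
    exact ⟨D, g, y, hy, bijective_unit_goodNbhd f j F D hD⟩
  refine ⟨fun p q hpq => ?_, fun p => ?_⟩
  · obtain ⟨W, w, s, t, rfl, rfl⟩ :=
      (Scheme.pointSmallEtale ξ).toPresheafFiber_jointly_surjective₂ (P := G.obj) p q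
    obtain ⟨V, g, y, hy, heq⟩ := (germ_eq_iff ξ _ W w _ _).1
      (((germ_naturality ξ φ W w s).symm.trans hpq).trans (germ_naturality ξ φ W w t))
    obtain ⟨D, g', y', hy', hbij⟩ := hb V y
    refine (germ_eq_iff ξ G W w s t).2 ⟨D, g' ≫ g, y', ?_, hbij.1 ?_⟩
    · rw [Functor.map_comp_apply, hy', hy]
    · refine (ConcreteCategory.congr_hom (φ.hom.naturality (g' ≫ g).op) s).trans
        (Eq.trans ?_ (ConcreteCategory.congr_hom (φ.hom.naturality (g' ≫ g).op) t).symm)
      show ((EtCoh.push j).obj ((EtCoh.pull j).obj G)).obj.map (g' ≫ g).op (φ.hom.app (op W) s) =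
        ((EtCoh.push j).obj ((EtCoh.pull j).obj G)).obj.map (g' ≫ g).op (φ.hom.app (op W) t)
      rw [op_comp, Functor.map_comp_apply, Functor.map_comp_apply]
      exact congrArg _ heq
  · obtain ⟨W, w, q, rfl⟩ := germ_surjective ξ _ p
    obtain ⟨D, g, y, hy, hbij⟩ := hb W w
    obtain ⟨s, hs⟩ := hbij.2 (((EtCoh.push j).obj ((EtCoh.pull j).obj G)).obj.map g.op q)
    refine ⟨germ ξ G D y s, ?_⟩
    refine (germ_naturality ξ φ D y s).trans ((congrArg _ hs).trans ?_)
    rw [← hy]
    exact (Scheme.pointSmallEtale ξ).toPresheafFiber_w_apply g y _ q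

end Groth.Agent.H18DenseUnit
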