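import Mathlib.AlgebraicGeometry.Fiber
import Mathlib.AlgebraicGeometry.Morphisms.UniversallyOpen
import Mathlib.AlgebraicGeometry.Morphisms.FormallyUnramified
import Mathlib.AlgebraicGeometry.Morphisms.Integral
import Mathlib.AlgebraicGeometry.Morphisms.Etale

/-!
# Fibres after base change
-/

set_option autoImplicit false
set_option backward.isDefEq.respectTransparency false
set_option backward.isDefEq.respectTransparency.types false

universe u

open CategoryTheory CategoryTheory.Limits AlgebraicGeometry

namespace Groth.Agent.H18DenseUnit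

variable {W B S : Scheme.{u}} (h : W ⟶ S) (g : B ⟶ S)

/-- The map on fibres induced by a change of base. -/
noncomputable def fibreMap (b : B) : (pullback.snd h g).fiber b ⟶ h.fiber (g b) :=
  pullback.lift ((pullback.snd h g).fiberι b ≫ pullback.fst h g)
    ((pullback.snd h g).fiberToSpecResidueField b ≫ Spec.map (g.residueFieldMap b)) (by
    simp only [Category.assoc, Scheme.Hom.SpecMap_residueFieldMap_fromSpecResidueField, pullback.condition]
    exact (Category.assoc _ _ _).symm.trans ((congrArg (· ≫ g) pullback.condition).trans (Category.assoc _ _ _)))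

theorem fibreMap_ι (b : B) :
    fibreMap h g b ≫ h.fiberι (g b) = (pullback.snd h g).fiberι b ≫ pullback.fst h g :=
  pullback.lift_fst _ _ _

theorem fibreMap_ι_apply (b : B) (p : ↥((pullback.snd h g).fiber b)) :
    h.fiberι (g b) (fibreMap h g b p) = pullback.fst h g ((pullback.snd h g).fiberι b p) :=
  congrArg (fun q : (pullback.snd h g).fiber b ⟶ W => q p) (fibreMap_ι h g b)

theorem fiberι_mem {X Y : Scheme.{u}} (f : X ⟶ Y) (y : Y) (p : ↥(f.fiber y)) : f (f.fiberι y p) = y :=
  (f.range_fiberι y).le ⟨p, rfl⟩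

theorem isPullback_fibreMap (b : B) :
    IsPullback (fibreMap h g b) ((pullback.snd h g).fiberToSpecResidueField b) (h.fiberToSpecResidueField (g b))
      (Spec.map (g.residueFieldMap b)) := by
  refine IsPullback.of_right ?_ (pullback.lift_snd _ _ _)
    (IsPullback.of_hasPullback h (S.fromSpecResidueField (g b)))
  rw [Scheme.Hom.SpecMap_residueFieldMap_fromSpecResidueField]
  show IsPullback (fibreMap h g b ≫ h.fiberι (g b)) _ _ _
  rw [fibreMap_ι]
  exact (IsPullback.of_hasPullback (pullback.snd h g) (B.fromSpecResidueField b)).paste_horiz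
    (IsPullback.of_hasPullback h g)

theorem universallyOpen_fibreMap (b : B) : UniversallyOpen (fibreMap h g b) := by
  haveI : Subsingleton ↥(Spec (S.residueField (g b))) := inferInstanceAs (Subsingleton (PrimeSpectrum _))
  haveI : UniversallyOpen (Spec.map (g.residueFieldMap b)) := inferInstance
  exact MorphismProperty.of_isPullback (P := @UniversallyOpen) (isPullback_fibreMap h g b).flip inferInstance

theorem universallyClosed_fibreMap [Etale g] (b : B) : UniversallyClosed (fibreMap h g b) := by
  letI := (g.residueFieldMap b).hom.toAlgebra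
  have hint : (g.residueFieldMap b).hom.IsIntegral :=
    fun x => Algebra.IsIntegral.isIntegral (R := S.residueField (g b)) x
  haveI : IsIntegralHom (Spec.map (g.residueFieldMap b)) := IsIntegralHom.SpecMap_iff.2 hint
  exact MorphismProperty.of_isPullback (P := @UniversallyClosed) (isPullback_fibreMap h g b).flip inferInstance

/-- Fibrewise density is stable under change of base. -/
theorem exists_mem_fibre (W0 : Set W)
    (hd : ∀ O : Set W, IsOpen O → ∀ z ∈ O, ∃ z' ∈ O, z' ∈ W0 ∧ h z' = h z)
    (O : Set ↥(pullback h g)) (hO : IsOpen O) (z : ↥(pullback h g)) (hz : z ∈ O) :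
    ∃ z' ∈ O, pullback.fst h g z' ∈ W0 ∧ pullback.snd h g z' = pullback.snd h g z := by
  obtain ⟨b, hb⟩ : ∃ b, pullback.snd h g z = b := ⟨_, rfl⟩
  obtain ⟨p, rfl⟩ : z ∈ Set.range ((pullback.snd h g).fiberι b) :=
    ((pullback.snd h g).range_fiberι b).ge hb
  haveI := universallyOpen_fibreMap h g b
  have ho : IsOpen (fibreMap h g b '' ((pullback.snd h g).fiberι b ⁻¹' O)) :=
    (fibreMap h g b).isOpenMap _ (hO.preimage ((pullback.snd h g).fiberι b).continuous)
  obtain ⟨O1, hO1, he⟩ := ((h.fiberι (g b)).isEmbedding.isInducing.isOpen_iff).1 ho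
  have hmem : h.fiberι (g b) (fibreMap h g b p) ∈ O1 := he.ge ⟨p, hz, rfl⟩
  obtain ⟨z', hz'O, hz'W, hz's⟩ := hd O1 hO1 _ hmem
  rw [fiberι_mem] at hz's
  obtain ⟨q, rfl⟩ : z' ∈ Set.range (h.fiberι (g b)) := (h.range_fiberι (g b)).ge hz's
  obtain ⟨p', hp', rfl⟩ := he.le hz'O
  refine ⟨(pullback.snd h g).fiberι b p', hp', ?_, (fiberι_mem _ b p').trans (fiberι_mem _ b p).symm⟩
  rwa [← fibreMap_ι_apply]

end Groth.Agent.H18DenseUnit
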