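import Groth.Agent.H18DenseUnit.Fibre
import Groth.Agent.S0412
import Groth.Agent.S1324
import Groth.Agent.S15351
import Groth.Agent.H17.Topology
import Groth.Agent.H18PBC.SteinEt.Kunneth
import Groth.Agent.H21Taylor.GeomInt
import Groth.Agent.H28Neron.NormalSmooth
import Groth.Prelude.Def_SGA4b

/-!
# Smooth neighbourhoods with connected geometric fibres
-/

set_option autoImplicit false
set_option linter.style.haveILetI false
set_option backward.isDefEq.respectTransparency false
set_option backward.isDefEq.respectTransparency.types false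

universe u

open CategoryTheory CategoryTheory.Limits AlgebraicGeometry TopologicalSpace

namespace Groth.Agent.H18DenseUnit

variable {W S : Scheme.{u}}

theorem compactSpace_fibre [CompactSpace W] (h : W ⟶ S) (s : S) : CompactSpace ↥(h.fiber s) := by
  haveI : Subsingleton ↥(Spec (S.residueField s)) := inferInstanceAs (Subsingleton (PrimeSpectrum _))
  haveI : QuasiCompact (S.fromSpecResidueField s) := ⟨fun U _ _ => Set.subsingleton_of_subsingleton.isCompact⟩
  haveI : QuasiCompact (h.fiberι s) := MorphismProperty.pullback_fst (P := @QuasiCompact) _ _ inferInstance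
  exact QuasiCompact.compactSpace_of_compactSpace (h.fiberι s)

theorem isLocallyNoetherian_fibre (h : W ⟶ S) [LocallyOfFiniteType h] (s : S) :
    IsLocallyNoetherian (h.fiber s) := by
  haveI : LocallyOfFiniteType (h.fiberToSpecResidueField s) :=
    MorphismProperty.pullback_snd (P := @LocallyOfFiniteType) _ _ inferInstance
  exact LocallyOfFiniteType.isLocallyNoetherian (h.fiberToSpecResidueField s)

/-- Étale-local sections through the fibre component of a point. -/
theorem exists_section_nbhd [IsAffine W] (h : W ⟶ S) [Smooth h] (w : W) :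
    ∃ (B : Scheme.{u}) (g : B ⟶ S) (_ : Etale g) (_ : IsAffine B) (σ : B ⟶ pullback h g)
      (_ : σ ≫ pullback.snd h g = 𝟙 B) (d : ↥(pullback h g)),
      d ∈ MoreMor.sectionComponents (pullback.snd h g) σ ∧ pullback.fst h g d = w := by
  let s := h w
  haveI := compactSpace_fibre h s
  haveI := isLocallyNoetherian_fibre h s
  haveI : IsNoetherian (h.fiber s) := {}
  let wF : ↥(h.fiber s) := h.asFiber w
  obtain ⟨O1, hO1, hO1C⟩ := ((h.fiberι s).isEmbedding.isInducing.isOpen_iff).1
    (H17.isOpen_connectedComponent wF)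
  let O : W.Opens := ⟨O1, hO1⟩
  have hwO : w ∈ O := by
    have h1 : wF ∈ (h.fiberι s) ⁻¹' O1 := hO1C ▸ mem_connectedComponent
    have h2 : h.fiberι s wF = w := h.fiberι_asFiber w
    exact h2 ▸ h1
  obtain ⟨S', g₀, s', hg₀, hs', e, he⟩ := S0412.result (O.ι ≫ h) s ⟨⟨w, hwO⟩, rfl⟩
  obtain ⟨B₀, hB₀, hsB, -⟩ := exists_isAffineOpen_mem_and_subset (U := (⊤ : S'.Opens)) (x := s') trivial
  let b : (B₀ : Scheme.{u}) := ⟨s', hsB⟩
  let g : (B₀ : Scheme.{u}) ⟶ S := B₀.ι ≫ g₀
  haveI : Etale g := inferInstance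
  let σ : (B₀ : Scheme.{u}) ⟶ pullback h g :=
    pullback.lift (B₀.ι ≫ e ≫ O.ι) (𝟙 _) (by
      simp only [Category.assoc, Category.id_comp]
      exact congrArg (B₀.ι ≫ ·) he)
  refine ⟨B₀, g, inferInstance, hB₀, σ, pullback.lift_snd _ _ _, ?_⟩
  have hgb : g b = s := hs'
  haveI : IsLocallyNoetherian ((pullback.snd h g).fiber b) := isLocallyNoetherian_fibre _ b
  haveI := H18PBC.SteinEt.locallyConnectedSpace ((pullback.snd h g).fiber b)
  haveI := universallyOpen_fibreMap h g b
  haveI := universallyClosed_fibreMap h g b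
  obtain ⟨σF, hσF⟩ : σ b ∈ Set.range ((pullback.snd h g).fiberι b) :=
    ((pullback.snd h g).range_fiberι b).ge
      (show pullback.snd h g (σ b) = b from congrArg (fun q : (B₀ : Scheme.{u}) ⟶ B₀ => q b) (pullback.lift_snd _ _ _))
  let K := connectedComponent σF
  let π := fibreMap h g b
  have himg : IsClopen (π '' K) :=
    ⟨π.isClosedMap _ isClosed_connectedComponent, π.isOpenMap _ isOpen_connectedComponent⟩
  -- transport to the fibre over `s`
  have hcomp : ∀ (t : S) (ht : t = s) (A : Set ↥(h.fiber t)) (hA : IsClopen A) (a : ↥(h.fiber t)) (ha : a ∈ A)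
      (haO : h.fiberι t a ∈ O), ∃ a' ∈ A, h.fiberι t a' = w := by
    rintro t rfl A hA a ha haO
    have haC : a ∈ connectedComponent wF := hO1C ▸ haO
    refine ⟨wF, hA.connectedComponent_subset ha ?_, h.fiberι_asFiber w⟩
    rw [← connectedComponent_eq haC]
    exact mem_connectedComponent
  have hvO : h.fiberι (g b) (π σF) ∈ O := by
    rw [fibreMap_ι_apply, hσF,
      show pullback.fst h g (σ b) = O.ι (e (B₀.ι b)) from
        congrArg (fun q : (B₀ : Scheme.{u}) ⟶ W => q b) (pullback.lift_fst _ _ _)]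
    exact (e (B₀.ι b)).2
  obtain ⟨_, ⟨k, hk, rfl⟩, hkw⟩ := hcomp (g b) hgb _ himg (π σF) ⟨σF, mem_connectedComponent, rfl⟩ hvO
  refine ⟨(pullback.snd h g).fiberι b k, ?_, ?_⟩
  · show _ ∈ connectedComponentIn (pullback.snd h g ⁻¹' {pullback.snd h g _})
      (σ (pullback.snd h g _))
    rw [fiberι_mem]
    refine (isPreconnected_connectedComponent.image _ ((pullback.snd h g).fiberι b).continuous.continuousOn
      ).subset_connectedComponentIn ⟨σF, mem_connectedComponent, hσF⟩ ?_ ⟨k, hk, rfl⟩
    rintro _ ⟨k', -, rfl⟩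
    exact fiberι_mem _ b k'
  · rw [← fibreMap_ι_apply]
    exact hkw

/-- Irreducibility of connected smooth schemes over fields. -/
theorem irreducibleSpace_of_smooth_field {K : Type u} [Field K] {P : Scheme.{u}}
    (p : P ⟶ Spec (CommRingCat.of K)) [Smooth p] [ConnectedSpace P] : IrreducibleSpace P := by
  have hN : Pi1.IsNormalScheme (Spec (CommRingCat.of K)) := fun y => by
    let e := (IsLocalization.atUnits K y.asIdeal.primeCompl
      (fun a ha => isUnit_iff_ne_zero.mpr fun h0 => ha (h0 ▸ Ideal.zero_mem _))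
      (S := Localization.AtPrime y.asIdeal)).toRingEquiv.trans
        (Spec.stalkIso (CommRingCat.of K) y).symm.commRingCatIsoToRingEquiv
    exact ⟨e.symm.toMulEquiv.isDomain _, IsIntegrallyClosed.of_equiv e⟩
  haveI : IsLocallyNoetherian P := LocallyOfFiniteType.isLocallyNoetherian p
  exact H21Taylor.irreducibleSpace_of_connected_of_domain_stalks P
    fun t => (H28Neron.isNormalScheme_of_smooth p hN t).1

/-- The geometric fibres of the section components are irreducible. -/
theorem irreducibleSpace_sectionComponents {X B : Scheme.{u}} (q : X ⟶ B) [Smooth q] (σ : B ⟶ X)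
    (hσ : σ ≫ q = 𝟙 B) (T : X.Opens) (hT : (T : Set X) = MoreMor.sectionComponents q σ)
    {K : Type u} [Field K] (η : Spec (CommRingCat.of K) ⟶ B) : IrreducibleSpace ↥(pullback (T.ι ≫ q) η) := by
  let f' := pullback.snd q η
  let g' := pullback.fst q η
  let σ' : Spec (CommRingCat.of K) ⟶ pullback q η :=
    pullback.lift (η ≫ σ) (𝟙 _) (by rw [Category.assoc, hσ, Category.comp_id, Category.id_comp])
  haveI : Subsingleton ↥(Spec (CommRingCat.of K)) := inferInstanceAs (Subsingleton (PrimeSpectrum K))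
  have hsc := S1324.result q σ hσ f' g' η (IsPullback.of_hasPullback q η) σ' (pullback.lift_snd _ _ _)
    (pullback.lift_fst _ _ _)
  have hconn : _root_.IsConnected (g' ⁻¹' (T : Set X)) := by
    rw [hT, ← hsc]
    have he : MoreMor.sectionComponents f' σ' = connectedComponent (σ' default) := by
      ext x
      show x ∈ connectedComponentIn (f' ⁻¹' {f' x}) (σ' (f' x)) ↔ _
      rw [show f' ⁻¹' {f' x} = Set.univ from Set.eq_univ_of_forall fun z => Subsingleton.elim _ _,
        connectedComponentIn_univ, Subsingleton.elim (f' x) default]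
    rw [he]
    exact isConnected_connectedComponent
  let r : pullback (T.ι ≫ q) η ⟶ pullback q η :=
    pullback.lift (pullback.fst _ _ ≫ T.ι) (pullback.snd _ _) (by rw [Category.assoc]; exact pullback.condition)
  have hsq : IsPullback r (pullback.fst (T.ι ≫ q) η) g' T.ι := by
    refine IsPullback.flip (IsPullback.of_bot ?_ (pullback.lift_fst _ _ _).symm (IsPullback.of_hasPullback q η))
    rw [pullback.lift_snd]
    exact IsPullback.of_hasPullback (T.ι ≫ q) η
  haveI : IsOpenImmersion r := MorphismProperty.of_isPullback (P := @IsOpenImmersion) hsq.flip inferInstance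
  have hr : Set.range r = g' ⁻¹' (T : Set X) := by
    refine Eq.trans ?_ (congrArg (g' ⁻¹' ·) T.range_ι)
    rw [← Scheme.Pullback.range_fst g' T.ι, ← hsq.isoPullback_hom_fst]
    exact Set.ext fun x => ⟨fun ⟨a, ha⟩ => ⟨hsq.isoPullback.hom a, ha⟩, fun ⟨a, ha⟩ => ⟨hsq.isoPullback.inv a, by
      rw [← ha]
      exact congrArg (fun m : pullback g' T.ι ⟶ pullback q η => m a) (hsq.isoPullback.inv_hom_id_assoc _)⟩⟩
  haveI : ConnectedSpace ↥(pullback (T.ι ≫ q) η) := by
    have h1 : _root_.IsConnected (r '' Set.univ) := by rw [Set.image_univ, hr]; exact hconn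
    exact connectedSpace_iff_univ.2 ⟨Set.image_nonempty.1 h1.1, r.isOpenEmbedding.isInducing.isPreconnected_image.1 h1.2⟩
  exact irreducibleSpace_of_smooth_field (pullback.snd (T.ι ≫ q) η)

/-- Smooth neighbourhoods with irreducible geometric fibres all meeting a fibrewise dense open. -/
theorem exists_nbhd [IsAffine W] (h : W ⟶ S) [Smooth h] (W0 : Set W)
    (hd : ∀ O : Set W, IsOpen O → ∀ z ∈ O, ∃ z' ∈ O, z' ∈ W0 ∧ h z' = h z) (w : W) :
    ∃ (B D : Scheme.{u}) (g : B ⟶ S) (_ : Etale g) (u : D ⟶ W) (_ : Etale u) (m : D ⟶ B) (_ : Smooth m),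
      m ≫ g = u ≫ h ∧ (∃ d, u d = w) ∧
      (∀ (K : Type u) [Field K] (η : Spec (CommRingCat.of K) ⟶ B), IrreducibleSpace ↥(pullback m η)) ∧
      ∀ b : B, ∃ d, u d ∈ W0 ∧ m d = b := by
  obtain ⟨B, g, hg, hB, σ, hσ, d, hd0, hdw⟩ := exists_section_nbhd h w
  haveI : QuasiSeparated (pullback.snd h g) := inferInstance
  haveI : QuasiSeparatedSpace ↥(pullback h g) := quasiSeparatedSpace_of_quasiSeparated (pullback.snd h g)
  let T : (pullback h g).Opens := ⟨_, S15351.result (pullback.snd h g) σ hσ⟩
  refine ⟨B, T, g, hg, T.ι ≫ pullback.fst h g, inferInstance, T.ι ≫ pullback.snd h g, inferInstance, ?_,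
    ⟨⟨d, hd0⟩, hdw⟩, fun K _ η => irreducibleSpace_sectionComponents _ σ hσ T rfl η, fun b => ?_⟩
  · rw [Category.assoc, Category.assoc, pullback.condition]
  · have hsb : pullback.snd h g (σ b) = b := congrArg (fun q : B ⟶ B => q b) hσ
    have hmem : σ b ∈ (T : Set ↥(pullback h g)) := by
      show σ b ∈ connectedComponentIn (pullback.snd h g ⁻¹' {pullback.snd h g (σ b)}) (σ (pullback.snd h g (σ b)))
      rw [hsb]
      exact mem_connectedComponentIn hsb
    obtain ⟨z', hz', hzW, hzb⟩ := exists_mem_fibre h g W0 hd _ T.2 _ hmem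
    exact ⟨⟨z', hz'⟩, hzW, hzb.trans hsb⟩

end Groth.Agent.H18DenseUnit
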