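import Groth.Agent.H18DenseUnit.Criterion
import Groth.Agent.H18DenseUnit.Geometry
import Groth.Agent.H9Et.GeomConnOfAlgClosed

/-!
# The unit over a fibrewise dense open of a smooth scheme
-/

set_option autoImplicit false
set_option linter.style.haveILetI false
set_option backward.isDefEq.respectTransparency false
set_option backward.isDefEq.respectTransparency.types false

universe u

open CategoryTheory CategoryTheory.Limits AlgebraicGeometry Opposite TopologicalSpace

namespace Groth.Agent.H18DenseUnit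

theorem isUnivSubmersive_of_universallyOpen {A B : Scheme.{u}} (m : A ⟶ B) [UniversallyOpen m] [Surjective m] :
    EtDesc.IsUnivSubmersive m := fun _ g =>
  ⟨(pullback.snd m g).surjective,
    (pullback.snd m g).isOpenMap.isQuotientMap (pullback.snd m g).continuous (pullback.snd m g).surjective⟩

/-- An open meeting every fibre of a smooth morphism with irreducible geometric fibres. -/
theorem geometricallyConnected_open {D D0 B : Scheme.{u}} (m : D ⟶ B) [Smooth m]
    (hirr : ∀ (K : Type u) [Field K] (η : Spec (CommRingCat.of K) ⟶ B), IrreducibleSpace ↥(pullback m η))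
    (v : D0 ⟶ D) [IsOpenImmersion v] (hne : ∀ b : B, ∃ d ∈ Set.range v, m d = b) :
    GeometricallyConnected (v ≫ m) ∧ EtDesc.IsUnivSubmersive (v ≫ m) := by
  haveI : Surjective (v ≫ m) := ⟨fun b => by
    obtain ⟨_, ⟨d0, rfl⟩, hd⟩ := hne b
    exact ⟨d0, hd⟩⟩
  refine ⟨H9Et.geometricallyConnected_of_algClosed _ fun K _ _ η => ?_, isUnivSubmersive_of_universallyOpen _⟩
  haveI := hirr K η
  let r : pullback (v ≫ m) η ⟶ pullback m η :=
    pullback.lift (pullback.fst _ _ ≫ v) (pullback.snd _ _) (by rw [Category.assoc]; exact pullback.condition)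
  have hsq : IsPullback (pullback.fst (v ≫ m) η) r v (pullback.fst m η) := by
    refine IsPullback.of_bot ?_ (pullback.lift_fst _ _ _).symm (IsPullback.of_hasPullback m η)
    rw [pullback.lift_snd]
    exact IsPullback.of_hasPullback (v ≫ m) η
  haveI : IsOpenImmersion r := MorphismProperty.of_isPullback (P := @IsOpenImmersion) hsq inferInstance
  haveI : Nonempty ↥(Spec (CommRingCat.of K)) := ⟨(default : PrimeSpectrum K)⟩
  haveI : Subsingleton ↥(Spec (CommRingCat.of K)) := inferInstanceAs (Subsingleton (PrimeSpectrum K))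
  haveI : Surjective (pullback.snd (v ≫ m) η) := inferInstance
  haveI : Nonempty ↥(pullback (v ≫ m) η) := ⟨((pullback.snd (v ≫ m) η).surjective default).choose⟩
  haveI : PreirreducibleSpace ↥(pullback (v ≫ m) η) := r.isOpenEmbedding.preirreducibleSpace
  haveI : IrreducibleSpace ↥(pullback (v ≫ m) η) := { toNonempty := inferInstance }
  infer_instance

variable {X U S : Scheme.{u}} (f : X ⟶ S) [Smooth f] (j : U ⟶ X) [IsOpenImmersion j]
  (hd : ∀ x : X, x ∈ closure (Set.range j ∩ {y : X | f y = f x}))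

include hd in
theorem exists_goodNbhd (W : X.Etale) (w : W.left) :
    ∃ (D : X.Etale) (g : D ⟶ W) (d : D.left), g.left.base d = w ∧ Nonempty (GoodNbhd f j D) := by
  haveI := W.prop
  let π : W.left ⟶ X := W.hom
  haveI : Etale π := W.prop
  obtain ⟨V, hV, hwV, -⟩ := exists_isAffineOpen_mem_and_subset (U := (⊤ : W.left.Opens)) (x := w) trivial
  haveI : IsAffine (V : Scheme.{u}) := hV
  let p : (V : Scheme.{u}) ⟶ X := V.ι ≫ π
  haveI : Etale p := inferInstance
  let W0 : Set (V : Scheme.{u}) := p ⁻¹' Set.range j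
  have hdW : ∀ O : Set (V : Scheme.{u}), IsOpen O → ∀ z ∈ O, ∃ z' ∈ O, z' ∈ W0 ∧ (p ≫ f) z' = (p ≫ f) z := by
    intro O hO z hz
    obtain ⟨_, ⟨z', hz', rfl⟩, hj, hfib⟩ := mem_closure_iff.1 (hd (p z)) _ (p.isOpenMap _ hO) ⟨z, hz, rfl⟩
    exact ⟨z', hz', hj, hfib⟩
  obtain ⟨B, D, g, hg, u, hu, m, hm, hcomm, ⟨d, hdw⟩, hirr, hne⟩ := exists_nbhd (p ≫ f) W0 hdW ⟨w, hwV⟩
  let De : X.Etale := Scheme.Etale.mk (u ≫ p)
  let gW : De ⟶ W := MorphismProperty.Over.homMk (u ≫ V.ι) (Category.assoc _ _ _) trivial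
  let Be : S.Etale := Scheme.Etale.mk g
  let μ : De ⟶ (EtCoh.bc f).obj Be :=
    MorphismProperty.Over.homMk (pullback.lift m (u ≫ p) (hcomm.trans (Category.assoc _ _ _).symm))
      (pullback.lift_snd _ _ _) trivial
  have hμ : μ.left ≫ pullback.fst Be.hom f = m := pullback.lift_fst _ _ _
  have hne' : ∀ b : B, ∃ d ∈ Set.range (pullback.fst De.hom j), m d = b := fun b => by
    obtain ⟨d, hd0, hdb⟩ := hne b
    exact ⟨d, (Scheme.Pullback.range_fst De.hom j).ge hd0, hdb⟩
  have h1 := geometricallyConnected_open m hirr (𝟙 D) fun b => (hne b).imp fun d h => ⟨⟨d, rfl⟩, h.2⟩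
  rw [Category.id_comp] at h1
  have h2 := geometricallyConnected_open m hirr (pullback.fst De.hom j) hne'
  refine ⟨De, gW, d, ?_, ⟨⟨Be, μ, ?_, ?_, ?_, ?_⟩⟩⟩
  · show V.ι (u d) = w
    rw [hdw]
    rfl
  · rw [hμ]; exact h1.1
  · rw [hμ]; exact h1.2
  · rw [hμ]; exact h2.1
  · rw [hμ]; exact h2.2

end Groth.Agent.H18DenseUnit
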